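import Groth.Agent.Agf.H601.GrothThm
import Groth.Agent.Agf.H604.BcSub
import Groth.Agent.Agf.H617.LangDom
import Groth.Agent.CalgB.SmoothReduced

/-!
# Smooth affine groups over a field have maximal tori

Scheme form of Grothendieck's theorem `GrothThm.hasTor`.
-/

set_option autoImplicit false

universe u

open CategoryTheory MonoidalCategory CartesianMonoidalCategory MonObj GrpObj AlgebraicGeometry
open Groth.Agent.Books.AffBridge Groth.Agent.Books.AffBridge2
open TensorProduct WithConv
open Groth.Agent.Sga3B Groth.Agent.Sga3B.RG Groth.Agent.Agf.H604.SemiDesc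
  Groth.Agent.Agf.H604.BcSub

namespace Groth.Agent.Sga3.H801.AffMax

section Def

variable {k K : Type u} [Field k] [Field K] [Algebra k K] {A : Type u} [CommRing A] [Algebra k A]

/-- The two forms of "defined over `k`". -/
lemma isDef_of {I : Ideal (K ⊗[k] A)} (h : Groth.Agent.Agf.H601.IsDef k K I) : IsDef I := by
  intro x hx
  have h' : (I.comap (Groth.Agent.Agf.H601.inc k K A)).map (Groth.Agent.Agf.H601.inc k K A) = I := h
  rw [← h', Ideal.map] at hx
  refine Submodule.span_induction (p := fun x _ => x ∈ Submodule.span K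
    ((fun a : A => (1 : K) ⊗ₜ[k] a) '' (contr I : Set A))) ?_ (Submodule.zero_mem _)
    (fun x y _ _ hx hy => Submodule.add_mem _ hx hy) ?_ hx
  · rintro _ ⟨a, ha, rfl⟩
    exact Submodule.subset_span ⟨a, ha, rfl⟩
  · intro y x _ hx
    rw [smul_eq_mul]
    refine Submodule.span_induction (p := fun x _ => y * x ∈ Submodule.span K
      ((fun a : A => (1 : K) ⊗ₜ[k] a) '' (contr I : Set A))) ?_ ?_ ?_ ?_ hx
    · rintro _ ⟨a, ha, rfl⟩
      change y * ((1 : K) ⊗ₜ[k] a) ∈ _
      induction y with
      | zero => rw [zero_mul]; exact Submodule.zero_mem _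
      | add y z hy hz => rw [add_mul]; exact Submodule.add_mem _ hy hz
      | tmul c b =>
        rw [Algebra.TensorProduct.tmul_mul_tmul, _root_.mul_one]
        have h1 : c ⊗ₜ[k] (b * a) = c • ((1 : K) ⊗ₜ[k] (b * a)) := by
          rw [TensorProduct.smul_tmul', smul_eq_mul, _root_.mul_one]
        rw [h1]
        exact Submodule.smul_mem _ _ (Submodule.subset_span
          ⟨b * a, Ideal.mul_mem_left _ _ ha, rfl⟩)
    · rw [mul_zero]; exact Submodule.zero_mem _
    · intro x z _ _ hx hz
      rw [mul_add]
      exact Submodule.add_mem _ hx hz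
    · intro c x _ hx
      rw [mul_smul_comm]
      exact Submodule.smul_mem _ _ hx

end Def

/-- **Smooth affine groups over a field have maximal tori.** -/
theorem exists_isMaximalTorus (k : Type u) [Field k]
    (G : Over (Spec (CommRingCat.of k))) [GrpObj G] [IsAffine G.left] [Smooth G.hom] :
    ∃ (T : Over (Spec (CommRingCat.of k))) (_ : GrpObj T) (i : T ⟶ G), Red.IsMaximalTorus i := by
  obtain ⟨A, _, _, e, he⟩ := exists_hopf k G
  have hsm : Algebra.Smooth k A := by
    rw [← smooth_specOver_iff]
    have : (SpecOver k A).hom = e.inv.left ≫ G.hom := (Over.w e.inv).symm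
    rw [this]
    have h1 : IsIso e.inv.left := inferInstanceAs (IsIso ((Over.forget _).map e.inv))
    infer_instance
  have hred : _root_.IsReduced (AlgebraicClosure k ⊗[k] A) := by
    have h2 : Algebra.Smooth (AlgebraicClosure k) (AlgebraicClosure k ⊗[k] A) := inferInstance
    exact Groth.Agent.CalgB.SmoothReduced.isReduced_of_smooth (AlgebraicClosure k) _
  obtain ⟨T, hT, hd⟩ := Groth.Agent.Agf.H601.GrothThm.hasTor (k := k) (K := AlgebraicClosure k)
    (A := A)
  have hTd := isDef_of hd
  have hTh := isHopfIdeal_contr hTd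
  exact ⟨_, inferInstance, subG e _, isMaximalTorus_of_isDef e hT hTd⟩

end Groth.Agent.Sga3.H801.AffMax
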