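import Groth.Agent.Sga3.H801.Reduction
import Groth.Agent.Sga3.H784.NAMain

/-!
# Existence of maximal tori over a field, from the affine case
-/

set_option autoImplicit false

universe u

open CategoryTheory MonoidalCategory CartesianMonoidalCategory MonObj GrpObj AlgebraicGeometry Limits

namespace Groth.Agent.Sga3.H801.OfAffine

/-- The facts on maximal tori over algebraically closed fields. -/
theorem naFacts (K : Type u) [Field K] [IsAlgClosed K] : GeomPart.NAFacts K where
  exists_conjBy i₁ i₂ h₁ h₂ := H784.NAMain.exists_conjBy i₁ i₂ h₁ h₂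
  exists_isMaximalTorus_of_torus j _ _ hR := H784.NAMain.exists_isMaximalTorus_of_torus j hR
  exists_isMaximalTorus G _ _ := H784.NAMain.exists_isMaximalTorus G
  isMaximalTorus_pullback σ _ _ _ _ _ i hi :=
    (H784.NAMain.isMaximalTorus_pullback_iff σ i hi.1 hi.2.2.1).mpr hi

/-- **Existence of maximal tori over a field**, from the affine case. -/
theorem exists_isMaximalTorus {k : Type u} [Field k]
    (haff : ∀ (Q : Over (Spec (CommRingCat.of k))) [GrpObj Q] [IsAffine Q.left] [Smooth Q.hom],
      ∃ (T : Over (Spec (CommRingCat.of k))) (_ : GrpObj T) (i : T ⟶ Q), Red.IsMaximalTorus i)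
    (G : Over (Spec (CommRingCat.of k))) [GrpObj G] [Smooth G.hom] [QuasiCompact G.hom] :
    ∃ (T : Over (Spec (CommRingCat.of k))) (_ : GrpObj T) (i : T ⟶ G), Red.IsMaximalTorus i :=
  Reduction.exists_isMaximalTorus (fun K _ _ => naFacts K) haff G

end Groth.Agent.Sga3.H801.OfAffine
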