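import Groth.Agent.Sga3.H798.AgreeOpen
import Groth.Agent.Sga3B.BcPts
import Groth.Agent.Sga3B.TorusBc

/-!
# Tori which commute modulo a central subgroup commute (over any base)

`q : G ⟶ Q` a homomorphism of `S`-groups with central kernel, `G` separated and locally of finite type, `T₁`, `T₂`
tori with homomorphisms `i₁ : T₁ ⟶ G`, `i₂ : T₂ ⟶ G` whose images in `Q` commute.  Then `i₁` and `i₂` commute.

The commutator is a bihomomorphism with central values; over the base `T₂` it is a homomorphism from a torus, which is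
trivial over an open and closed part of `T₂` (`AgreeOpen.exists_clopen`), which contains the unit section.
-/

set_option autoImplicit false

universe u

open CategoryTheory MonoidalCategory CartesianMonoidalCategory MonObj GrpObj AlgebraicGeometry Limits

namespace Groth.Agent.Sga3.H801.CentralComm

open Groth.Agent.Sga3B Groth.Agent.Sga3B.BcPts

section cm

variable {C : Type*} [Category C] [CartesianMonoidalCategory C] {G Q T₁ T₂ : C} [GrpObj G]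
  (i₁ : T₁ ⟶ G) (i₂ : T₂ ⟶ G)

/-- the commutator of two points -/
def cm {X : C} (t : X ⟶ T₁) (r : X ⟶ T₂) : X ⟶ G :=
  (t ≫ i₁) * (r ≫ i₂) * (t ≫ i₁)⁻¹ * (r ≫ i₂)⁻¹

lemma comp_cm {X Y : C} (h : Y ⟶ X) (t : X ⟶ T₁) (r : X ⟶ T₂) :
    h ≫ cm i₁ i₂ t r = cm i₁ i₂ (h ≫ t) (h ≫ r) := by
  simp only [cm, MonObj.comp_mul, GrpObj.comp_inv, Category.assoc]

lemma cm_one [GrpObj T₂] [IsMonHom i₂] {X : C} (t : X ⟶ T₁) : cm i₁ i₂ t (1 : X ⟶ T₂) = 1 := by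
  rw [cm, MonObj.one_comp]
  group

lemma cm_eq_one {X : C} (t : X ⟶ T₁) (r : X ⟶ T₂) :
    cm i₁ i₂ t r = 1 ↔ (t ≫ i₁) * (r ≫ i₂) = (r ≫ i₂) * (t ≫ i₁) := by
  rw [cm, mul_inv_eq_one, mul_inv_eq_iff_eq_mul]

lemma cm_mul [GrpObj Q] [GrpObj T₁] [IsMonHom i₁] (q : G ⟶ Q) [IsMonHom q]
    (hq : ∀ (X : C) (z g : X ⟶ G), z ≫ q = 1 → z * g = g * z)
    (hc : ∀ (X : C) (t : X ⟶ T₁) (r : X ⟶ T₂),
      (t ≫ i₁ ≫ q) * (r ≫ i₂ ≫ q) = (r ≫ i₂ ≫ q) * (t ≫ i₁ ≫ q))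
    {X : C} (t t' : X ⟶ T₁) (r : X ⟶ T₂) :
    cm i₁ i₂ (t * t') r = cm i₁ i₂ t r * cm i₁ i₂ t' r := by
  have h1 : cm i₁ i₂ t' r ≫ q = 1 := by
    rw [cm, MonObj.mul_comp, MonObj.mul_comp, MonObj.mul_comp, GrpObj.inv_comp, GrpObj.inv_comp,
      Category.assoc, Category.assoc, hc]
    group
  have h2 := hq X _ (t ≫ i₁) h1
  have h4 := hq X _ (cm i₁ i₂ t r) h1
  simp only [cm, MonObj.mul_comp t t' i₁] at *
  generalize t ≫ i₁ = a at *
  generalize t' ≫ i₁ = b at *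
  generalize r ≫ i₂ = c at *
  calc a * b * c * (a * b)⁻¹ * c⁻¹ = a * (b * c * b⁻¹ * c⁻¹) * c * a⁻¹ * c⁻¹ := by group
    _ = (b * c * b⁻¹ * c⁻¹) * a * c * a⁻¹ * c⁻¹ := by rw [← h2]
    _ = (b * c * b⁻¹ * c⁻¹) * (a * c * a⁻¹ * c⁻¹) := by group
    _ = (a * c * a⁻¹ * c⁻¹) * (b * c * b⁻¹ * c⁻¹) := h4

end cm

variable {S : Scheme.{u}} {G Q T₁ T₂ : Over S}

/-- the tautological `T₂`-point of a scheme over `T₂` -/
noncomputable def taut (T₂ : Over S) (Z : Over T₂.left) : (Over.map T₂.hom).obj Z ⟶ T₂ :=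
  Over.homMk Z.hom (by simp)

lemma comp_taut (T₂ : Over S) {Z Z' : Over T₂.left} (h : Z' ⟶ Z) :
    (Over.map T₂.hom).map h ≫ taut T₂ Z = taut T₂ Z' := by
  ext1
  simp [taut]

variable [GrpObj G]

/-- the commutator, over the base `T₂` -/
noncomputable def cmHom (i₁ : T₁ ⟶ G) (i₂ : T₂ ⟶ G) : Red.bc T₂.hom T₁ ⟶ Red.bc T₂.hom G :=
  bcEquiv T₂.hom _ G (cm i₁ i₂ ((bcEquiv T₂.hom _ T₁).symm (𝟙 _)) (taut T₂ _))

lemma comp_cmHom (i₁ : T₁ ⟶ G) (i₂ : T₂ ⟶ G) {Z : Over T₂.left} (z : Z ⟶ Red.bc T₂.hom T₁) :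
    z ≫ cmHom i₁ i₂ = bcEquiv T₂.hom Z G (cm i₁ i₂ ((bcEquiv T₂.hom Z T₁).symm z) (taut T₂ Z)) := by
  rw [cmHom, ← comp_bcEquiv, comp_cm, comp_taut, ← comp_bcEquiv_symm, Category.comp_id]

variable [GrpObj Q] [GrpObj T₁]

lemma isMonHom_cmHom (i₁ : T₁ ⟶ G) [IsMonHom i₁] (i₂ : T₂ ⟶ G) (q : G ⟶ Q) [IsMonHom q]
    (hq : ∀ (X : Over S) (z g : X ⟶ G), z ≫ q = 1 → z * g = g * z)
    (hc : ∀ (X : Over S) (t : X ⟶ T₁) (r : X ⟶ T₂),
      (t ≫ i₁ ≫ q) * (r ≫ i₂ ≫ q) = (r ≫ i₂ ≫ q) * (t ≫ i₁ ≫ q)) :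
    IsMonHom (cmHom i₁ i₂) := by
  refine InfConjFam.isMonHom_of_mul _ fun Z z z' => ?_
  rw [comp_cmHom, comp_cmHom, comp_cmHom, ← bcEquiv_mul, ← cm_mul i₁ i₂ q hq hc]
  congr 2
  exact map_mul (bcMulEquiv T₂.hom Z T₁).symm z z'

omit [GrpObj G] [GrpObj Q] [GrpObj T₁] in
/-- the fibres of a geometrically irreducible morphism are preconnected -/
lemma isPreconnected_fiber {X : Scheme.{u}} (f : X ⟶ S) [GeometricallyIrreducible f] (s : S) :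
    _root_.IsPreconnected (f ⁻¹' {s}) := by
  rw [← f.range_fiberι]
  exact isPreconnected_range (f.fiberι s).continuous

/-- **Tori which commute modulo a central subgroup commute.** -/
theorem commute_of_central [GrpObj T₂] [IsSeparated G.hom] [LocallyOfFiniteType G.hom] (q : G ⟶ Q) [IsMonHom q]
    (hq : ∀ (X : Over S) (z g : X ⟶ G), z ≫ q = 1 → z * g = g * z)
    (i₁ : T₁ ⟶ G) [IsMonHom i₁] (i₂ : T₂ ⟶ G) [IsMonHom i₂] (h₁ : Red.IsTorus T₁) (h₂ : Red.IsTorus T₂)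
    (hc : ∀ (X : Over S) (t : X ⟶ T₁) (r : X ⟶ T₂),
      (t ≫ i₁ ≫ q) * (r ≫ i₂ ≫ q) = (r ≫ i₂ ≫ q) * (t ≫ i₁ ≫ q))
    (X : Over S) (t : X ⟶ T₁) (r : X ⟶ T₂) : (t ≫ i₁) * (r ≫ i₂) = (r ≫ i₂) * (t ≫ i₁) := by
  have hm := isMonHom_cmHom i₁ i₂ q hq hc
  have hm1 : IsMonHom (1 : Red.bc T₂.hom T₁ ⟶ Red.bc T₂.hom G) :=
    InfConjFam.isMonHom_of_mul _ fun Z z z' => by
      rw [MonObj.comp_one, MonObj.comp_one, MonObj.comp_one, _root_.mul_one]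
  have : IsSeparated (Red.bc T₂.hom G).hom := inferInstanceAs (IsSeparated (pullback.snd _ _))
  have : LocallyOfFiniteType (Red.bc T₂.hom G).hom :=
    inferInstanceAs (LocallyOfFiniteType (pullback.snd _ _))
  have hirr := TorusIrr.geometricallyIrreducible_of_isTorus h₂
  obtain ⟨U, hU, hU'⟩ := Sga3.H798.AgreeOpen.exists_clopen (cmHom i₁ i₂)
    (1 : Red.bc T₂.hom T₁ ⟶ Red.bc T₂.hom G) (TorusBc.isTorus_bc T₂.hom h₁) (fun X x y => by
      rw [MonObj.comp_one, _root_.mul_one, _root_.one_mul])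
  -- the unit section is contained in `U`
  have hη : Set.range η[T₂].left ⊆ U := by
    refine (hU' (Over.mk η[T₂].left)).mp ?_
    rw [comp_cmHom, MonObj.comp_one]
    have e1 : taut T₂ (Over.mk η[T₂].left) = 1 := by
      have h3 : (1 : (Over.map T₂.hom).obj (Over.mk η[T₂].left) ⟶ T₂) = toUnit _ ≫ η[T₂] := by
        rw [MonObj.one_eq_one, MonObj.comp_one]
      rw [h3]
      ext1
      rw [Over.comp_left, Over.toUnit_left]
      have h4 : η[T₂].left ≫ T₂.hom = 𝟙 S := Over.w η[T₂]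
      change η[T₂].left = (η[T₂].left ≫ T₂.hom) ≫ η[T₂].left
      rw [h4]
      exact (Category.id_comp _).symm
    have e2 : taut T₂ (Red.bc T₂.hom T₁ ⊗ Over.mk η[T₂].left) = 1 := by
      rw [← comp_taut T₂ (snd (Red.bc T₂.hom T₁) (Over.mk η[T₂].left)), e1, MonObj.comp_one]
    rw [e2, cm_one]
    exact bcEquiv_one _
  have hU1 : ∀ p : T₂.left, p ∈ U := by
    intro p
    refine (isPreconnected_fiber T₂.hom (T₂.hom p)).subset_isClopen ⟨hU, U.2⟩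
      ⟨η[T₂].left (T₂.hom p), ?_, hη ⟨_, rfl⟩⟩ rfl
    have h4 : η[T₂].left ≫ T₂.hom = 𝟙 S := Over.w η[T₂]
    change T₂.hom (η[T₂].left (T₂.hom p)) = T₂.hom p
    rw [← Scheme.Hom.comp_apply, h4]
    rfl
  have key := (hU' (Over.mk (𝟙 T₂.left))).mpr (fun p _ => hU1 p)
  let r' : X ⟶ Over.mk T₂.hom := Over.homMk r.left (Over.w r)
  let Z : Over T₂.left := Over.mk r.left
  let o : (Over.map T₂.hom).obj Z ≅ X := overIso r'
  let z : Z ⟶ Red.bc T₂.hom T₁ := bcEquiv T₂.hom Z T₁ (o.hom ≫ t)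
  have h5 := congrArg (fun k => lift z (Over.homMk r.left : Z ⟶ Over.mk (𝟙 T₂.left)) ≫ k) key
  simp only [lift_fst_assoc, MonObj.comp_one] at h5
  rw [comp_cmHom] at h5
  have h6 : taut T₂ Z = o.hom ≫ r := by
    ext1
    simp only [taut, Over.homMk_left, Over.comp_left, o, overIso_hom_left]
    exact (Category.id_comp _).symm
  rw [Equiv.symm_apply_apply, h6, ← comp_cm] at h5
  have h7 : o.hom ≫ cm i₁ i₂ t r = 1 := by
    apply (bcEquiv T₂.hom Z G).injective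
    rw [h5, bcEquiv_one]
  rw [← cm_eq_one, ← cancel_epi o.hom, h7, MonObj.comp_one]

end Groth.Agent.Sga3.H801.CentralComm
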