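import Groth.Agent.Sga3.H801.PbFam
import Groth.Agent.Sga3.H784.Commute
import Groth.Agent.Sga3B.AlgBc2

/-!
# Maximal tori over a commutative subgroup of a central quotient are compatible

`f : S' ⟶ S`, `G` a separated group locally of finite type over `S`, `q : G ⟶ Q` with central kernel, `c : C ⟶ Q` a
commutative subgroup, `t : T ⟶ bc f G` a torus lying over `C` all of whose geometric fibres are maximal tori.  Then the
pull-backs of `T` along two maps to `S'` over `S` agree (`MemAt t a g → MemAt t b g`), so that `T` descends to `S` if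
`f` is an fpqc covering.
-/

set_option autoImplicit false

universe u

open CategoryTheory MonoidalCategory CartesianMonoidalCategory MonObj GrpObj AlgebraicGeometry Limits

namespace Groth.Agent.Sga3.H801.Compat

open Groth.Agent.Sga3B Groth.Agent.Sga3B.BcPts Groth.Agent.Sga3B.MT Groth.Agent.Sga3B.RedIso
  Groth.Agent.Sga3.H801.PbFam Groth.Agent.Sga3B.BcNat

variable {S S' : Scheme.{u}} {f : S' ⟶ S} {G Q C : Over S} {T : Over S'} [GrpObj G] [GrpObj Q] [GrpObj C] [GrpObj T]

/-- The geometric fibres of the pull-back are base changes of `t`. -/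
lemma isMaximalTorus_pb {X P : Scheme.{u}} (t : T ⟶ Red.bc f G) (a : X ⟶ S') {x : X ⟶ S} (h : a ≫ f = x) (p : P ⟶ X)
    (hp : Red.IsMaximalTorus ((Over.pullback (p ≫ a)).map t)) :
    Red.IsMaximalTorus ((Over.pullback p).map (pb t a h)) := by
  refine AlgBc.isMaximalTorus_of_arrow (BcIso.bcCompIso p a T)
    (BcIso.bcCompIso p a (Red.bc f G) ≪≫ BcIso.bcMapIso p ((BcIso.bcCompIso a f G).symm ≪≫ BcIso.bcCongrIso h G)) ?_ hp
  rw [und_trans, und_bcMapIso, und_trans, und_symm, ← Category.assoc, ← comp_nat, Category.assoc, ← Functor.map_comp]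
  rfl

/-- commutativity passes to base changes -/
lemma comm_bc {X : Scheme.{u}} (x : X ⟶ S) (hC : ∀ (Z : Over S) (x y : Z ⟶ C), x * y = y * x) (Z : Over X)
    (c d : Z ⟶ Red.bc x C) : c * d = d * c := by
  apply (bcMulEquiv x Z C).symm.injective
  rw [map_mul, map_mul]
  exact hC _ _ _

/-- centrality of the kernel passes to base changes -/
lemma central_bc {X : Scheme.{u}} (x : X ⟶ S) (q : G ⟶ Q)
    (hq : ∀ (Z : Over S) (z g : Z ⟶ G), z ≫ q = 1 → z * g = g * z) (Z : Over X)
    (z g : Z ⟶ Red.bc x G) (hz : z ≫ (Over.pullback x).map q = 1) : z * g = g * z := by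
  apply (bcMulEquiv x Z G).symm.injective
  rw [map_mul, map_mul]
  refine hq _ _ _ ?_
  apply (bcEquiv x Z Q).injective
  rw [bcEquiv_comp, bcEquiv_one]
  exact (congrArg (fun k => k ≫ (Over.pullback x).map q) ((bcEquiv x Z G).apply_symm_apply z)).trans hz

/-- **Compatibility.** -/
theorem memAt_of_memAt [IsSeparated G.hom] [LocallyOfFiniteType G.hom] (q : G ⟶ Q) [IsMonHom q]
    (hq : ∀ (Z : Over S) (z g : Z ⟶ G), z ≫ q = 1 → z * g = g * z)
    (c : C ⟶ Q) [IsMonHom c] (hC : ∀ (Z : Over S) (x y : Z ⟶ C), x * y = y * x)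
    (t : T ⟶ Red.bc f G) [IsMonHom t] [Mono t] (hT : Red.IsTorus T)
    (v : T ⟶ Red.bc f C) (hv : v ≫ (Over.pullback f).map c = t ≫ (Over.pullback f).map q)
    (hmax : ∀ (L : Type u) [Field L] [IsAlgClosed L] (σ : Spec (CommRingCat.of L) ⟶ S'),
      Red.IsMaximalTorus ((Over.pullback σ).map t))
    (Y : Over S) (a b : Y ⟶ Over.mk f) (g : Y ⟶ G) (hg : MemAt t a g) : MemAt t b g := by
  refine memAt_of_factor t a b ?_ g hg
  have hTa : Red.IsTorus (Red.bc a.left T) := TorusBc.isTorus_bc _ hT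
  have hTb : Red.IsTorus (Red.bc b.left T) := TorusBc.isTorus_bc _ hT
  have : IsSeparated (Red.bc Y.hom G).hom := inferInstanceAs (IsSeparated (pullback.snd _ _))
  have : LocallyOfFiniteType (Red.bc Y.hom G).hom :=
    inferInstanceAs (LocallyOfFiniteType (pullback.snd _ _))
  have key : ∀ (d : Y ⟶ Over.mk f) (Z : Over Y.left) (r : Z ⟶ Red.bc d.left T),
      r ≫ pb t d.left (Over.w d) ≫ (Over.pullback Y.hom).map q =
        (r ≫ pb v d.left (Over.w d)) ≫ (Over.pullback Y.hom).map c := by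
    intro d Z r
    rw [Category.assoc, ← pb_comp, ← pb_comp, hv]
  have hcomm : ∀ (Z : Over Y.left) (r : Z ⟶ Red.bc b.left T) (r' : Z ⟶ Red.bc a.left T),
      (r ≫ pb t b.left (Over.w b)) * (r' ≫ pb t a.left (Over.w a)) =
        (r' ≫ pb t a.left (Over.w a)) * (r ≫ pb t b.left (Over.w b)) := by
    refine CentralComm.commute_of_central ((Over.pullback Y.hom).map q) (central_bc Y.hom q hq) _ _ hTb hTa ?_
    intro Z r r'
    rw [key b, key a, ← MonObj.mul_comp, ← MonObj.mul_comp, comm_bc Y.hom hC]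
  refine H798.SubTorus.exists_factor _ _ hTb hTa hcomm (H798.SubTorus.fibLe_of_geomFibre fun s => ?_)
  have h1 := isMaximalTorus_pb t b.left (Over.w b) (Red.geomPt s) (hmax _ _)
  have h2 : Red.IsTorus (Red.geomFibre s (Red.bc a.left T)) := TorusBc.isTorus_bc _ hTa
  refine H784.Commute.exists_factor_of_commute _ h1 _ h2 fun r r' => ?_
  exact H798.SubTorus.comm_bc (Red.geomPt s) _ _ (fun Z r r' => hcomm Z r r') _ r r'

end Groth.Agent.Sga3.H801.Compat
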