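import Groth.Agent.Sga3.H801.Compat
import Groth.Agent.S3036

/-!
# Descent of a maximal torus from an algebraic closure

`G` a group locally of finite type over a field `k`, `q : G ⟶ Q` with central kernel, `c : C ⟶ Q` a commutative
subgroup, `t` a maximal torus of the geometric fibre lying over `C`.  If `t` stays maximal over every algebraically
closed extension, then `G` has a maximal torus.
-/

set_option autoImplicit false

universe u

open CategoryTheory MonoidalCategory CartesianMonoidalCategory MonObj GrpObj AlgebraicGeometry Limits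

namespace Groth.Agent.Sga3.H801.FieldDesc

open Groth.Agent.Sga3B Groth.Agent.Sga3B.BcPts Groth.Agent.Sga3B.MT Groth.Agent.Sga3B.RedIso
  Groth.Agent.Sga3B.BcNat

instance subsingleton_spec (k : Type u) [Field k] : Subsingleton (Spec (CommRingCat.of k)) :=
  inferInstanceAs (Subsingleton (PrimeSpectrum k))

section cover

variable {k : Type u} [Field k] {X : Scheme.{u}} (f : X ⟶ Spec (CommRingCat.of k))

instance flat_toField : Flat f := by
  have : IsIntegral (Spec (CommRingCat.of k)) := inferInstance
  infer_instance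

lemma surjective_toField [Nonempty X] : Surjective f :=
  ⟨fun _ => ⟨Classical.arbitrary X, Subsingleton.elim _ _⟩⟩

lemma qc_cover [Surjective f] [QuasiCompact f] (V : (Spec (CommRingCat.of k)).Opens) (hV : IsAffineOpen V) :
    ∃ W : X.Opens, IsCompact (W : Set X) ∧ f.base '' (W : Set X) = (V : Set (Spec (CommRingCat.of k))) :=
  ⟨f ⁻¹ᵁ V, QuasiCompact.isCompact_preimage (f := f) _ V.2 hV.isCompact,
    Set.image_preimage_eq _ f.surjective⟩

end cover

variable {k : Type u} [Field k]

instance quasiCompact_geomPt (s : Spec (CommRingCat.of k)) : QuasiCompact (Red.geomPt s) := by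
  infer_instance

/-- **Descent of maximal tori.** -/
theorem exists_isMaximalTorus {G Q C : Over (Spec (CommRingCat.of k))} [GrpObj G] [GrpObj Q] [GrpObj C]
    [LocallyOfFiniteType G.hom] (q : G ⟶ Q) [IsMonHom q]
    (hq : ∀ (Z : Over (Spec (CommRingCat.of k))) (z g : Z ⟶ G), z ≫ q = 1 → z * g = g * z)
    (c : C ⟶ Q) [IsMonHom c] (hC : ∀ (Z : Over (Spec (CommRingCat.of k))) (x y : Z ⟶ C), x * y = y * x)
    (s : Spec (CommRingCat.of k))
    {T : Over (Spec (CommRingCat.of (AlgebraicClosure ((Spec (CommRingCat.of k)).residueField s))))} [GrpObj T]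
    (t : T ⟶ Red.bc (Red.geomPt s) G) (ht : Red.IsMaximalTorus t)
    (v : T ⟶ Red.bc (Red.geomPt s) C)
    (hv : v ≫ (Over.pullback (Red.geomPt s)).map c = t ≫ (Over.pullback (Red.geomPt s)).map q)
    (hmax : ∀ (L : Type u) [Field L] [IsAlgClosed L] (σ : Spec (CommRingCat.of L) ⟶
      Spec (CommRingCat.of (AlgebraicClosure ((Spec (CommRingCat.of k)).residueField s)))),
      Red.IsMaximalTorus ((Over.pullback σ).map t)) :
    ∃ (P : Over (Spec (CommRingCat.of k))) (_ : GrpObj P) (p : P ⟶ G), Red.IsMaximalTorus p := by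
  have hsep : IsSeparated G.hom := Groth.Agent.Localalg.GrpSchComp2.isSeparated_hom G
  obtain ⟨ht1, ht2, ht3, ht4⟩ := id ht
  have hs : Surjective (Red.geomPt s) := surjective_toField _
  have hqs : QuasiCompact (Red.geomPt s) := inferInstance
  -- `t` is a closed immersion
  have hsepK : IsSeparated (Red.bc (Red.geomPt s) G).hom := inferInstanceAs (IsSeparated (pullback.snd _ _))
  have hlftK : LocallyOfFiniteType (Red.bc (Red.geomPt s) G).hom :=
    inferInstanceAs (LocallyOfFiniteType (pullback.snd _ _))
  have hlftT : LocallyOfFiniteType T.hom := H784.Commute.lft_of_isTorus ht3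
  have haffT : IsAffineHom T.hom := TorusAlgClosed.isAffineHom_of_isTorus ht3
  have hqct : QuasiCompact t.left := by
    have : QuasiCompact (t.left ≫ (Red.bc (Red.geomPt s) G).hom) := by
      rw [Over.w t]; infer_instance
    exact QuasiCompact.of_comp t.left (Red.bc (Red.geomPt s) G).hom
  have hcl : IsClosedImmersion t.left := Groth.Agent.S3036.result _ T (Red.bc (Red.geomPt s) G) t
  obtain ⟨P, gP, p, hp, hpcl, e, he⟩ := FpqcSub.exists_closed_subgroup (f := Red.geomPt s) t
    (fun X a b g hg => Compat.memAt_of_memAt q hq c hC t ht3 v hv hmax X a b g hg)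
  have hpm : Mono p := Sga3C.ClosedSub.mono_of_left p
  have hmaxp : Red.IsMaximalTorus ((Over.pullback (Red.geomPt s)).map p) := by
    refine AlgBc.isMaximalTorus_of_arrow e (Iso.refl _) ?_ ht
    rw [he]
    exact Category.comp_id _
  refine ⟨P, gP, p, hp, hpm, ?_, fun s' => ?_⟩
  · exact AlgBc.isTorus_of_bc (Red.geomPt s) (fun V hV => qc_cover _ V hV) (TorusBc.isTorus_of_iso e ht3)
  · obtain rfl : s = s' := Subsingleton.elim _ _
    exact (AlgBc.isMaximalTorus_iff.mp hmaxp).2.2.2

end Groth.Agent.Sga3.H801.FieldDesc
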