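import Groth.Agent.Sga3B.MT.Descend
import Groth.Agent.Sga3C.SchemImage

/-!
# Fpqc descent of closed subgroups along a single quasi-compact flat surjective morphism

`f : S' ⟶ S` flat, surjective and quasi-compact (no finiteness hypothesis), `t : T ⟶ bc f G` a closed subgroup whose
two pull-backs to `S' ×_S S'` agree (in the form `MemAt t a g → MemAt t b g`).  Then `T` comes from a closed subgroup
`p : P ⟶ G` (the schematic image of `T` in `G`).
-/

set_option autoImplicit false

universe u

open CategoryTheory MonoidalCategory CartesianMonoidalCategory MonObj GrpObj AlgebraicGeometry Limits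

namespace Groth.Agent.Sga3.H801.FpqcSub

open Groth.Agent.Sga3B Groth.Agent.Sga3B.BcPts Groth.Agent.Sga3B.Parab Groth.Agent.Sga3B.MT

variable {S S' : Scheme.{u}} {f : S' ⟶ S} {G : Over S} {T : Over S'}

/-- `MemAt` for a closed subscheme descends along schematically dominant morphisms. -/
lemma memAt_of_dominant (t : T ⟶ Red.bc f G) [IsClosedImmersion t.left] {X' X : Over S} (h : X' ⟶ X)
    [IsSchemeTheoreticallyDominant h.left] {a : X ⟶ Over.mk f} {g : X ⟶ G}
    (H : MemAt t (h ≫ a) (h ≫ g)) : MemAt t a g := by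
  obtain ⟨x, hx⟩ := (memAt_iff t _ _).1 H
  rw [bcPt_comp] at hx
  have : IsSchemeTheoreticallyDominant (ovMap h a).left := ‹_›
  exact (memAt_iff t _ _).2 (Sga3C.SchemImage.exists_lift_over (ovMap h a) (bcPt a g) t x hx)

/-- the underlying `S`-scheme of `T` -/
noncomputable abbrev tS (f : S' ⟶ S) (T : Over S') : Over S := (Over.map f).obj T

/-- the `G`-point of `T` -/
noncomputable abbrev tPt (t : T ⟶ Red.bc f G) : tS f T ⟶ G := (bcEquiv f T G).symm t

lemma memAt_self (t : T ⟶ Red.bc f G) : MemAt t (MemAt.strHom f T) (tPt t) :=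
  (MemAt.iff_of_over t T t).2 ⟨𝟙 _, Category.id_comp _⟩

/-- a point `g` in `T` (for some structure over `S'`) is a composite with the `G`-point of `T`. -/
lemma exists_of_memAt {t : T ⟶ Red.bc f G} {X : Over S} {a : X ⟶ Over.mk f} {g : X ⟶ G} (H : MemAt t a g) :
    ∃ x : X ⟶ tS f T, x ≫ tPt t = g := by
  obtain ⟨x, hx⟩ := H
  refine ⟨(overIso a).inv ≫ (Over.map f).map x, ?_⟩
  rw [Category.assoc, ← comp_bcEquiv_symm, hx, Equiv.symm_apply_apply, Iso.inv_hom_id_assoc]

variable [QuasiCompact f]

instance quasiCompact_tPt (t : T ⟶ Red.bc f G) [IsClosedImmersion t.left] : QuasiCompact (tPt t).left := by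
  have h : (tPt t).left = t.left ≫ pullback.fst G.hom f := by
    simp [tPt, bcEquiv, Adjunction.homEquiv_counit]
  rw [h]
  infer_instance

/-- the schematic image -/
noncomputable def imOver (t : T ⟶ Red.bc f G) : Over S := Over.mk ((tPt t).left.imageι ≫ G.hom)

/-- the schematic image: inclusion -/
noncomputable def imι (t : T ⟶ Red.bc f G) : imOver t ⟶ G := Over.homMk (tPt t).left.imageι

/-- the schematic image: projection -/
noncomputable def toIm (t : T ⟶ Red.bc f G) : tS f T ⟶ imOver t :=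
  Over.homMk (tPt t).left.toImage (by
    change (tPt t).left.toImage ≫ (tPt t).left.imageι ≫ G.hom = _
    rw [Scheme.Hom.toImage_imageι_assoc, Over.w])

@[reassoc (attr := simp)]
lemma toIm_imι (t : T ⟶ Red.bc f G) : toIm t ≫ imι t = tPt t := by
  ext1
  exact Scheme.Hom.toImage_imageι _

instance isClosedImmersion_imι (t : T ⟶ Red.bc f G) : IsClosedImmersion (imι t).left :=
  inferInstanceAs (IsClosedImmersion (tPt t).left.imageι)

instance dominant_toIm (t : T ⟶ Red.bc f G) : IsSchemeTheoreticallyDominant (toIm t).left :=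
  Sga3C.SchemImage.dominant_toImage _

instance quasiCompact_toIm (t : T ⟶ Red.bc f G) [IsClosedImmersion t.left] : QuasiCompact (toIm t).left := by
  have : QuasiCompact ((toIm t).left ≫ (imι t).left) := by
    rw [← Over.comp_left, toIm_imι]
    infer_instance
  exact QuasiCompact.of_comp _ (imι t).left

/-- **Key point**: points of the image which are given a structure over `S'` are points of `T`. -/
lemma memAt_of_im (t : T ⟶ Red.bc f G) [Flat f] [IsClosedImmersion t.left]
    (hc : ∀ (X : Over S) (a b : X ⟶ Over.mk f) (g : X ⟶ G), MemAt t a g → MemAt t b g)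
    {X : Over S} (x : X ⟶ imOver t) (a : X ⟶ Over.mk f) : MemAt t a (x ≫ imι t) := by
  have hflat : Flat (Over.mk f).hom := ‹Flat f›
  have h1 : IsSchemeTheoreticallyDominant (toIm t ▷ Over.mk f).left :=
    Sga3C.SchemImage.dominant_whiskerRight (toIm t) (Over.mk f)
  have h2 : MemAt t (snd (imOver t) (Over.mk f)) (fst (imOver t) (Over.mk f) ≫ imι t) := by
    refine memAt_of_dominant t (toIm t ▷ Over.mk f) ?_
    rw [whiskerRight_snd, whiskerRight_fst_assoc, toIm_imι]
    exact hc _ (fst _ _ ≫ MemAt.strHom f T) _ _ ((memAt_self t).comp _)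
  have h3 := h2.comp (lift x a)
  rwa [lift_snd, lift_fst_assoc] at h3

lemma exists_im_of_memAt {t : T ⟶ Red.bc f G} {X : Over S} {a : X ⟶ Over.mk f} {g : X ⟶ G}
    (H : MemAt t a g) : ∃ x : X ⟶ imOver t, x ≫ imι t = g := by
  obtain ⟨x, hx⟩ := exists_of_memAt H
  exact ⟨x ≫ toIm t, by rw [Category.assoc, toIm_imι, hx]⟩

/-- factoring through the image can be tested after `X ⊗ S' ⟶ X`. -/
lemma exists_im_of_fst (t : T ⟶ Red.bc f G) [Flat f] [Surjective f] {X : Over S} (g : X ⟶ G)
    (H : ∃ x : X ⊗ Over.mk f ⟶ imOver t, x ≫ imι t = fst X (Over.mk f) ≫ g) :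
    ∃ x : X ⟶ imOver t, x ≫ imι t = g := by
  obtain ⟨x, hx⟩ := H
  have h1 : Flat (fst X (Over.mk f)).left := by
    rw [Over.fst_left]
    exact MorphismProperty.pullback_fst (P := @Flat) _ _ ‹Flat f›
  have h2 : Surjective (fst X (Over.mk f)).left := by
    rw [Over.fst_left]
    exact MorphismProperty.pullback_fst (P := @Surjective) _ _ ‹Surjective f›
  have h3 : IsSchemeTheoreticallyDominant (fst X (Over.mk f)).left :=
    Sga3C.FlatGeneric.isSchemeTheoreticallyDominant_of_flat_surjective _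
  exact Sga3C.SchemImage.exists_lift_over (fst X (Over.mk f)) g (imι t) x hx

/-- **Fpqc descent of closed subgroups.** -/
theorem exists_closed_subgroup [GrpObj G] [GrpObj T] [Flat f] [Surjective f] (t : T ⟶ Red.bc f G) [IsMonHom t]
    [IsClosedImmersion t.left]
    (hc : ∀ (X : Over S) (a b : X ⟶ Over.mk f) (g : X ⟶ G), MemAt t a g → MemAt t b g) :
    ∃ (P : Over S) (_ : GrpObj P) (p : P ⟶ G), IsMonHom p ∧ IsClosedImmersion p.left ∧
      ∃ e : Grp.mk T ≅ Grp.mk (Red.bc f P), (RedIso.und e).hom ≫ (Over.pullback f).map p = t := by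
  have hp0 : Mono (imι t) := Sga3C.ClosedSub.mono_of_left (imι t)
  obtain ⟨hP, hp⟩ := Sga3C.ClosedSub.exists_grpObj_of_mono (imι t)
    (exists_im_of_fst t η[G] (exists_im_of_memAt (a := snd _ _) (by
      rw [MonObj.one_eq_one, MonObj.comp_one]
      exact MemAt.one _)))
    (exists_im_of_fst t _ (exists_im_of_memAt (a := snd _ _) (by
      have h1 : (imι t ⊗ₘ imι t) ≫ μ[G] = (fst _ _ ≫ imι t) * (snd _ _ ≫ imι t) := by
        rw [Hom.mul_def]
        congr 1
      rw [h1, MonObj.comp_mul, ← Category.assoc, ← Category.assoc]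
      exact (memAt_of_im t hc _ _).mul (memAt_of_im t hc _ _))))
    (exists_im_of_fst t _ (exists_im_of_memAt (a := snd _ _) (by
      have h1 : imι t ≫ ι[G] = (imι t)⁻¹ := rfl
      rw [h1, GrpObj.comp_inv]
      exact (memAt_of_im t hc _ _).inv)))
  refine ⟨imOver t, hP, imι t, hp, inferInstance, ?_⟩
  have key : ∀ (X : Over S') (g : X ⟶ Red.bc f G),
      (∃ x : X ⟶ T, x ≫ t = g) ↔ ∃ x : X ⟶ Red.bc f (imOver t), x ≫ (Over.pullback f).map (imι t) = g := by
    intro X g
    rw [← MemAt.iff_of_over]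
    constructor
    · intro H
      obtain ⟨x, hx⟩ := exists_im_of_memAt H
      exact ⟨bcEquiv f X (imOver t) x, by rw [← bcEquiv_comp, hx, Equiv.apply_symm_apply]⟩
    · rintro ⟨x, hx⟩
      rw [← hx, bcEquiv_symm_comp]
      exact memAt_of_im t hc _ _
  have hm : Mono t := Sga3C.ClosedSub.mono_of_left t
  have hm' : Mono ((Over.pullback f).map (imι t)) := inferInstance
  obtain ⟨u, hu⟩ := (key T t).1 ⟨𝟙 _, Category.id_comp _⟩
  obtain ⟨v, hv⟩ := (key (Red.bc f (imOver t)) ((Over.pullback f).map (imι t))).2 ⟨𝟙 _, Category.id_comp _⟩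
  have huv : u ≫ v = 𝟙 _ := by rw [← cancel_mono t, Category.assoc, hv, hu, Category.id_comp]
  have hvu : v ≫ u = 𝟙 _ := by
    rw [← cancel_mono ((Over.pullback f).map (imι t)), Category.assoc, hu, hv, Category.id_comp]
  let e : T ≅ Red.bc f (imOver t) := ⟨u, v, huv, hvu⟩
  have hmon : IsMonHom u := Pts.isMonHom_of_points u fun X x y => by
    rw [← cancel_mono ((Over.pullback f).map (imι t))]
    simp only [Category.assoc, hu, MonObj.mul_comp]
  have : IsMonHom e.hom := hmon
  exact ⟨Grp.mkIso' e, hu⟩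

end Groth.Agent.Sga3.H801.FpqcSub
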