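import Groth.Agent.Sga3.H801.FieldDesc
import Groth.Agent.Sga3.H784.ImgTorus
import Groth.Agent.Agf.H582.ConjDict
import Groth.Agent.Agf.H608.ImgGlue
import Groth.Agent.Sga3B.MaxTorNear900
import Groth.Agent.S3027
import Groth.Agent.S0115
import Groth.Prelude.Def_SGA3x

/-!
# Maximal tori of connected smooth groups over a field, from the affine case

`NAFacts K` collects the facts on maximal tori of groups over algebraically closed fields which are used (they are
proved in `Groth.Agent.Sga3.H784.NAMain`).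
-/

set_option autoImplicit false

universe u

open CategoryTheory MonoidalCategory CartesianMonoidalCategory MonObj GrpObj AlgebraicGeometry Limits

namespace Groth.Agent.Sga3.H801.GeomPart

open Groth.Agent.Sga3B Groth.Agent.Sga3B.BcPts Groth.Agent.Sga3B.MT Groth.Agent.Sga3B.RedIso
  Groth.Agent.Sga3B.BcNat

/-- Facts on maximal tori of (not necessarily affine) groups over an algebraically closed field. -/
structure NAFacts (K : Type u) [Field K] [IsAlgClosed K] : Prop where
  exists_conjBy : ∀ {G T₁ T₂ : Over (Spec (CommRingCat.of K))} [GrpObj G] [GrpObj T₁] [GrpObj T₂]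
    [LocallyOfFiniteType G.hom] (i₁ : T₁ ⟶ G) (i₂ : T₂ ⟶ G), Red.IsMaximalTorus i₁ → Red.IsMaximalTorus i₂ →
    ∃ g : 𝟙_ (Over (Spec (CommRingCat.of K))) ⟶ G, SGA3x.ConjBy i₁ i₂ g
  exists_isMaximalTorus_of_torus : ∀ {G R : Over (Spec (CommRingCat.of K))} [GrpObj G] [GrpObj R]
    [LocallyOfFiniteType G.hom] (j : R ⟶ G) [IsMonHom j] [Mono j], Red.IsTorus R →
    ∃ (T : Over (Spec (CommRingCat.of K))) (_ : GrpObj T) (i : T ⟶ G) (f : R ⟶ T),
      Red.IsMaximalTorus i ∧ f ≫ i = j
  exists_isMaximalTorus : ∀ (G : Over (Spec (CommRingCat.of K))) [GrpObj G]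
    [LocallyOfFiniteType G.hom],
    ∃ (T : Over (Spec (CommRingCat.of K))) (_ : GrpObj T) (i : T ⟶ G), Red.IsMaximalTorus i
  isMaximalTorus_pullback : ∀ {L : Type u} [Field L] [IsAlgClosed L]
    (σ : Spec (CommRingCat.of L) ⟶ Spec (CommRingCat.of K))
    {G T : Over (Spec (CommRingCat.of K))} [GrpObj G] [GrpObj T] [LocallyOfFiniteType G.hom]
    (i : T ⟶ G), Red.IsMaximalTorus i → Red.IsMaximalTorus ((Over.pullback σ).map i)

section geom

variable {K : Type u} [Field K] [IsAlgClosed K]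

/-- A maximal torus of `G` lying over a given maximal torus of a quotient of `G`. -/
theorem exists_over (h : NAFacts K) {G Q C : Over (Spec (CommRingCat.of K))} [GrpObj G] [GrpObj Q] [GrpObj C]
    [LocallyOfFiniteType G.hom] [LocallyOfFiniteType Q.hom] (q : G ⟶ Q) [IsMonHom q] [Surjective q.left]
    (c : C ⟶ Q) (hc : Red.IsMaximalTorus c) :
    ∃ (T : Over (Spec (CommRingCat.of K))) (_ : GrpObj T) (t : T ⟶ G) (v : T ⟶ C),
      Red.IsMaximalTorus t ∧ v ≫ c = t ≫ q := by
  obtain ⟨T, gT, t₀, ht₀⟩ := h.exists_isMaximalTorus G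
  have ht₀' := ht₀.1
  obtain ⟨T₁, _, p, i, hT₁, hp, hi, hmi, -, -, hpi⟩ := H784.ImgTorus.exists_image_torus (t₀ ≫ q) ht₀.2.2.1
  obtain ⟨M, _, m, e, hm, he⟩ := h.exists_isMaximalTorus_of_torus i hT₁
  obtain ⟨y, φ, hφ⟩ := h.exists_conjBy m c hm hc
  obtain ⟨x, hx⟩ := Groth.Agent.Agf.H608.ImgGlue.exists_lift_pt q y
  refine ⟨T, gT, t₀ ≫ (Groth.Agent.Agf.H582.ConjDict.conjIso x).hom, p ≫ e ≫ φ.hom, ?_, ?_⟩
  · refine AlgBc.isMaximalTorus_of_arrow (Iso.refl _)
      (Grp.mkIso' (Groth.Agent.Agf.H582.ConjDict.conjIso x)) ?_ ht₀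
    exact (Category.id_comp _).symm
  · have h1 : (t₀ ≫ (Groth.Agent.Agf.H582.ConjDict.conjIso x).hom) ≫ q =
        (toUnit T ≫ y) * (t₀ ≫ q) * (toUnit T ≫ y)⁻¹ := by
      rw [Groth.Agent.Agf.H582.ConjDict.comp_conjIso_hom, MonObj.mul_comp, MonObj.mul_comp, GrpObj.inv_comp,
        Category.assoc, hx]
    rw [h1, Category.assoc, Category.assoc, ← hφ, ← hpi, ← he]
    simp only [MonObj.comp_mul, GrpObj.comp_inv, comp_toUnit_assoc]

end geom

section connected

variable {k : Type u} [Field k]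

/-- **The connected case**, from the affine case. -/
theorem exists_of_connected
    (hNA : ∀ (K : Type u) [Field K] [IsAlgClosed K], NAFacts K)
    (haff : ∀ (Q : Over (Spec (CommRingCat.of k))) [GrpObj Q] [IsAffine Q.left] [Smooth Q.hom],
      ∃ (T : Over (Spec (CommRingCat.of k))) (_ : GrpObj T) (i : T ⟶ Q), Red.IsMaximalTorus i)
    (G : Over (Spec (CommRingCat.of k))) [GrpObj G] [Smooth G.hom] [QuasiCompact G.hom] [ConnectedSpace G.left] :
    ∃ (T : Over (Spec (CommRingCat.of k))) (_ : GrpObj T) (i : T ⟶ G), Red.IsMaximalTorus i := by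
  obtain ⟨Z, gZ, i, hi, hicl, hcent, Q, gQ, q, hq, hQa, hQlft, hqf, hqs, hker⟩ := Groth.Agent.S3027.result k G
  have hqc : ∀ (X : Over (Spec (CommRingCat.of k))) (z g : X ⟶ G), z ≫ q = 1 → z * g = g * z := by
    intro X z g hz
    have h1 : z ≫ q = toUnit X ≫ η[Q] := by
      rw [hz, MonObj.one_eq_one, MonObj.comp_one]
    have h2 := (hcent X z).mp ⟨hker.lift z (toUnit X) h1, hker.lift_fst _ _ _⟩ X (𝟙 X) g
    rwa [Category.id_comp] at h2
  have hQlfp : LocallyOfFinitePresentation Q.hom := inferInstance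
  have hQsm : Smooth Q.hom := by
    have : Smooth (q.left ≫ Q.hom) := by rw [Over.w q]; infer_instance
    exact Groth.Agent.S0115.smooth_of_comp_field k q.left Q.hom
  obtain ⟨C, gC, c, hc⟩ := haff Q
  have hc1 := hc.1
  have hc2 := hc.2.1
  let s : Spec (CommRingCat.of k) := IsLocalRing.closedPoint k
  have hmaxc : Red.IsMaximalTorus ((Over.pullback (Red.geomPt s)).map c) :=
    AlgBc.isMaximalTorus_iff.mpr ⟨inferInstance, inferInstance, TorusBc.isTorus_bc _ hc.2.2.1, hc.2.2.2 s⟩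
  have h1 : LocallyOfFiniteType (Red.bc (Red.geomPt s) G).hom :=
    inferInstanceAs (LocallyOfFiniteType (pullback.snd _ _))
  have h2 : LocallyOfFiniteType (Red.bc (Red.geomPt s) Q).hom :=
    inferInstanceAs (LocallyOfFiniteType (pullback.snd _ _))
  have h3 : Surjective ((Over.pullback (Red.geomPt s)).map q).left := by
    exact MorphismProperty.of_isPullback (P := @Surjective)
      (Groth.Agent.Sga3.H798.FpqcIso.isPullback_map_left (Red.geomPt s) q) ‹_›
  obtain ⟨T, gT, t, v, ht, hv⟩ := exists_over (hNA _) ((Over.pullback (Red.geomPt s)).map q)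
    ((Over.pullback (Red.geomPt s)).map c) hmaxc
  exact FieldDesc.exists_isMaximalTorus q hqc c (MaxTorNear900.mul_comm_of_isTorus hc.2.2.1) s t ht v hv
    (fun L _ _ σ => (hNA _).isMaximalTorus_pullback σ t ht)

end connected

end Groth.Agent.Sga3.H801.GeomPart
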