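import Groth.Agent.Sga3.H801.FpqcSub
import Groth.Agent.Sga3.H801.CentralComm
import Groth.Agent.Sga3.H798.SubTorus
import Groth.Agent.Sga3B.DsBc
import Groth.Agent.Sga3B.BcNat

/-!
# Pulling back a subgroup of `bc f G` along two maps to `S'`

`f : S' ⟶ S`, `t : T ⟶ bc f G`; for `a : X ⟶ S'` with `a ≫ f = x`, `pb t a h : bc a T ⟶ bc x G` is the pull-back of
`t`; its points are described by `MemAt`.
-/

set_option autoImplicit false

universe u

open CategoryTheory MonoidalCategory CartesianMonoidalCategory MonObj GrpObj AlgebraicGeometry Limits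

namespace Groth.Agent.Sga3.H801.PbFam

open Groth.Agent.Sga3B Groth.Agent.Sga3B.BcPts Groth.Agent.Sga3B.MT Groth.Agent.Sga3B.RedIso

variable {S S' X : Scheme.{u}} {f : S' ⟶ S} {G H : Over S} {T : Over S'}

/-- two points of a base change over `X` agree if their underlying points agree -/
lemma bc_hom_ext {x : X ⟶ S} {Z : Over X} (u v : Z ⟶ Red.bc x G)
    (h : u.left ≫ pullback.fst G.hom x = v.left ≫ pullback.fst G.hom x) : u = v := by
  ext1
  refine pullback.hom_ext h ?_
  exact (Over.w u).trans (Over.w v).symm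

lemma pullback_map_left_fst {x : X ⟶ S} (g : G ⟶ H) :
    ((Over.pullback x).map g).left ≫ pullback.fst H.hom x = pullback.fst G.hom x ≫ g.left := by
  simp only [Over.pullback_map_left]
  erw [pullback.lift_fst]

lemma bcEquiv_left_fst {x : X ⟶ S} {Z : Over X} (g : (Over.map x).obj Z ⟶ G) :
    (bcEquiv x Z G g).left ≫ pullback.fst G.hom x = g.left := by
  simp only [bcEquiv, Adjunction.homEquiv_unit, Over.comp_left, Category.assoc, Over.pullback_map_left,
    Over.mapPullbackAdj_unit_app]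
  erw [pullback.lift_fst, pullback.lift_fst_assoc]
  simp

lemma bcEquiv_symm_left {x : X ⟶ S} {Z : Over X} (g : Z ⟶ Red.bc x G) :
    ((bcEquiv x Z G).symm g).left = g.left ≫ pullback.fst G.hom x := by
  conv_rhs => rw [← (bcEquiv x Z G).apply_symm_apply g]
  rw [bcEquiv_left_fst]

variable [GrpObj G] [GrpObj H]

/-- the pull-back of `t : T ⟶ bc f G` along `a`, where `a ≫ f = x`. -/
noncomputable def pb (t : T ⟶ Red.bc f G) (a : X ⟶ S') {x : X ⟶ S} (h : a ≫ f = x) :
    Red.bc a T ⟶ Red.bc x G :=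
  (Over.pullback a).map t ≫ (und (BcIso.bcCompIso a f G)).inv ≫ (und (BcIso.bcCongrIso h G)).hom

instance isMonHom_pb [GrpObj T] (t : T ⟶ Red.bc f G) [IsMonHom t] (a : X ⟶ S') {x : X ⟶ S}
    (h : a ≫ f = x) : IsMonHom (pb t a h) :=
  inferInstanceAs (IsMonHom (_ ≫ _ ≫ _))

instance mono_pb (t : T ⟶ Red.bc f G) [Mono t] (a : X ⟶ S') {x : X ⟶ S}
    (h : a ≫ f = x) : Mono (pb t a h) :=
  inferInstanceAs (Mono (_ ≫ _ ≫ _))

/-- transitivity iso -/
lemma comp_inv_left (a : X ⟶ S') (f : S' ⟶ S) (G : Over S) [GrpObj G] :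
    (und (BcIso.bcCompIso a f G)).inv.left ≫ pullback.fst G.hom (a ≫ f) =
      pullback.fst (Red.bc f G).hom a ≫ pullback.fst G.hom f := by
  rw [← DsBc.bcComp_fst a f G, ← Category.assoc, ← Over.comp_left, Iso.inv_hom_id]
  exact Category.id_comp _

lemma pb_left_fst (t : T ⟶ Red.bc f G) (a : X ⟶ S') {x : X ⟶ S} (h : a ≫ f = x) :
    (pb t a h).left ≫ pullback.fst G.hom x = pullback.fst T.hom a ≫ t.left ≫ pullback.fst G.hom f := by
  simp only [pb, Over.comp_left, Category.assoc]
  rw [DsBc.bcCongr_fst, comp_inv_left, ← Category.assoc, pullback_map_left_fst, Category.assoc]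

lemma pb_comp (t : T ⟶ Red.bc f G) (g : G ⟶ H) (a : X ⟶ S') {x : X ⟶ S} (h : a ≫ f = x) :
    pb (t ≫ (Over.pullback f).map g) a h = pb t a h ≫ (Over.pullback x).map g := by
  apply bc_hom_ext
  rw [pb_left_fst, Over.comp_left, Over.comp_left, Category.assoc, Category.assoc,
    pullback_map_left_fst, pullback_map_left_fst, ← Category.assoc (pb t a h).left, pb_left_fst,
    Category.assoc, Category.assoc]

/-- composition with a map of sources -/
lemma map_pb {T' : Over S'} (v : T' ⟶ T) (t : T ⟶ Red.bc f G) (a : X ⟶ S') {x : X ⟶ S}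
    (h : a ≫ f = x) : (Over.pullback a).map v ≫ pb t a h = pb (v ≫ t) a h := by
  rw [pb, pb, Functor.map_comp, Category.assoc]

/-- **Points of the pull-back.** -/
theorem exists_pb_iff (t : T ⟶ Red.bc f G) (a : X ⟶ S') {x : X ⟶ S} (h : a ≫ f = x) {Z : Over X}
    (g : (Over.map x).obj Z ⟶ G) :
    (∃ z : Z ⟶ Red.bc a T, z ≫ pb t a h = bcEquiv x Z G g) ↔
      MemAt t (MemAt.strHom x Z ≫ (Over.homMk a h : Over.mk x ⟶ Over.mk f)) g := by
  let α : (Over.map x).obj Z ⟶ Over.mk f := MemAt.strHom x Z ≫ (Over.homMk a h : Over.mk x ⟶ Over.mk f)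
  have hα : α.left = Z.hom ≫ a := rfl
  rw [memAt_iff]
  constructor
  · rintro ⟨z, hz⟩
    have h1 := (bcEquiv a Z T).symm z
    let z' : Over.mk α.left ⟶ T := Over.homMk (z.left ≫ pullback.fst T.hom a) (by
      rw [Category.assoc, pullback.condition]
      change z.left ≫ pullback.snd _ _ ≫ a = Z.hom ≫ a
      rw [← Category.assoc]
      congr 1
      exact Over.w z)
    refine ⟨z', ?_⟩
    apply bc_hom_ext
    rw [bcPt, bcEquiv_left_fst]
    have h2 := congrArg (fun k => k.left ≫ pullback.fst G.hom x) hz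
    simp only [bcEquiv_left_fst, Over.comp_left, Category.assoc] at h2
    rw [pb_left_fst] at h2
    simp only [Over.comp_left, Category.assoc, z', Over.homMk_left, overIso_hom_left]
    exact h2.trans (Category.id_comp _).symm
  · rintro ⟨z', hz'⟩
    let z₀ : (Over.map a).obj Z ⟶ T := Over.homMk z'.left (Over.w z')
    refine ⟨bcEquiv a Z T z₀, ?_⟩
    apply bc_hom_ext
    rw [bcEquiv_left_fst, Over.comp_left, Category.assoc, pb_left_fst, ← Category.assoc, bcEquiv_left_fst]
    have h2 := congrArg (fun k => k.left ≫ pullback.fst G.hom f) hz'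
    rw [bcPt] at h2
    simp only [bcEquiv_left_fst, Over.comp_left, Category.assoc, overIso_hom_left] at h2
    exact h2.trans (Category.id_comp _)

/-- If the pull-back along `a` is contained in the pull-back along `b`, then the points of `t` at `a` are points of
`t` at `b`. -/
theorem memAt_of_factor (t : T ⟶ Red.bc f G) {Y : Over S} (a b : Y ⟶ Over.mk f)
    (H : ∃ F : Red.bc a.left T ⟶ Red.bc b.left T, F ≫ pb t b.left (Over.w b) = pb t a.left (Over.w a))
    (g : Y ⟶ G) (hg : MemAt t a g) : MemAt t b g := by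
  obtain ⟨F, hF⟩ := H
  let Z : Over Y.left := Over.mk (𝟙 Y.left)
  let e : (Over.map Y.hom).obj Z ⟶ Y := Over.homMk (𝟙 Y.left) rfl
  let e' : Y ⟶ (Over.map Y.hom).obj Z := Over.homMk (𝟙 Y.left) (by
    change 𝟙 _ ≫ 𝟙 _ ≫ Y.hom = Y.hom
    rw [Category.id_comp, Category.id_comp])
  have key : ∀ c : Y ⟶ Over.mk f, MemAt.strHom Y.hom Z ≫
      (Over.homMk c.left (Over.w c) : Over.mk Y.hom ⟶ Over.mk f) = e ≫ c := by
    intro c
    ext1
    rfl
  have he : e' ≫ e = 𝟙 _ := by
    ext1
    exact Category.id_comp _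
  have h1 := hg.comp e
  rw [← key a, ← exists_pb_iff] at h1
  obtain ⟨z, hz⟩ := h1
  have h2 : ∃ z : Z ⟶ Red.bc b.left T, z ≫ pb t b.left (Over.w b) = bcEquiv Y.hom Z G (e ≫ g) :=
    ⟨z ≫ F, by rw [Category.assoc, hF, hz]⟩
  have h3 := (exists_pb_iff t b.left (Over.w b) (e ≫ g)).mp h2
  rw [key b] at h3
  have h4 := h3.comp e'
  rwa [← Category.assoc, ← Category.assoc, he, Category.id_comp, Category.id_comp] at h4

end Groth.Agent.Sga3.H801.PbFam
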