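import Groth.Agent.Sga3.H801.GeomPart
import Groth.Agent.S3023

/-!
# Reduction of the existence of maximal tori over a field to connected, then to affine groups
-/

set_option autoImplicit false

universe u

open CategoryTheory MonoidalCategory CartesianMonoidalCategory MonObj GrpObj AlgebraicGeometry Limits

namespace Groth.Agent.Sga3.H801.Reduction

open Groth.Agent.Sga3B Groth.Agent.Sga3B.RedIso

/-- A homomorphism from a connected group factors through an open and closed subgroup. -/
theorem exists_factor {S : Scheme.{u}} [Subsingleton S] [Nonempty S] {G G₀ T : Over S} [GrpObj G] [GrpObj G₀]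
    [GrpObj T] (i : G₀ ⟶ G) [IsMonHom i] [IsOpenImmersion i.left] [IsClosedImmersion i.left] (j : T ⟶ G) [IsMonHom j]
    [ConnectedSpace T.left] : ∃ j' : T ⟶ G₀, j' ≫ i = j := by
  have hcl : IsClopen (Set.range i.left) :=
    ⟨i.left.isClosedEmbedding.isClosed_range, i.left.isOpenEmbedding.isOpen_range⟩
  have h1 : IsClopen (j.left ⁻¹' Set.range i.left) := hcl.preimage j.left.continuous
  let s : S := Classical.arbitrary S
  have h2 : η[T].left s ∈ j.left ⁻¹' Set.range i.left := by
    refine ⟨η[G₀].left s, ?_⟩
    rw [← Scheme.Hom.comp_apply, ← Scheme.Hom.comp_apply, ← Over.comp_left, ← Over.comp_left,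
      IsMonHom.one_hom, IsMonHom.one_hom]
  have h3 : j.left ⁻¹' Set.range i.left = Set.univ := by
    rcases isClopen_iff.mp h1 with h | h
    · rw [h] at h2; exact h2.elim
    · exact h
  have h4 : Set.range j.left ⊆ Set.range i.left := by
    rintro _ ⟨x, rfl⟩
    have : x ∈ j.left ⁻¹' Set.range i.left := by rw [h3]; trivial
    exact this
  refine ⟨Over.homMk (IsOpenImmersion.lift i.left j.left h4) ?_, ?_⟩
  · rw [← Over.w i, IsOpenImmersion.lift_fac_assoc, Over.w]
  · ext1
    exact IsOpenImmersion.lift_fac _ _ _

/-- A maximal torus of an open and closed subgroup is a maximal torus. -/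
theorem isMaximalTorus_comp {S : Scheme.{u}} {G G₀ T : Over S} [GrpObj G] [GrpObj G₀]
    [GrpObj T] (i : G₀ ⟶ G) [IsMonHom i] [IsOpenImmersion i.left] [IsClosedImmersion i.left] (t : T ⟶ G₀)
    (ht : Red.IsMaximalTorus t) : Red.IsMaximalTorus (t ≫ i) := by
  obtain ⟨h1, h2, h3, h4⟩ := ht
  have hmi : Mono i.left := inferInstance
  have hi : Mono i := Over.mono_of_mono_left i
  refine ⟨inferInstance, inferInstance, h3, fun s T' _ j _ _ f hT' hf => ?_⟩
  have hsub : Subsingleton (Spec (CommRingCat.of (AlgebraicClosure (S.residueField s)))) :=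
    inferInstanceAs (Subsingleton (PrimeSpectrum _))
  have hpb := Groth.Agent.Sga3.H798.FpqcIso.isPullback_map_left (Red.geomPt s) i
  have hop : IsOpenImmersion ((Over.pullback (Red.geomPt s)).map i).left :=
    MorphismProperty.of_isPullback (P := @IsOpenImmersion) hpb ‹_›
  have hcl : IsClosedImmersion ((Over.pullback (Red.geomPt s)).map i).left :=
    MorphismProperty.of_isPullback (P := @IsClosedImmersion) hpb ‹_›
  have hirr := TorusIrr.geometricallyIrreducible_of_isTorus hT'
  have hirr2 : IrreducibleSpace T'.left := GeometricallyIrreducible.irreducibleSpace_of_subsingleton T'.hom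
  obtain ⟨j', hj'⟩ := exists_factor ((Over.pullback (Red.geomPt s)).map i) j
  have hm1 : Mono ((Over.pullback (Red.geomPt s)).map i) := inferInstance
  have hj'm : Mono j' := by
    have : Mono (j' ≫ (Over.pullback (Red.geomPt s)).map i) := by rw [hj']; infer_instance
    exact mono_of_mono j' ((Over.pullback (Red.geomPt s)).map i)
  have hj'h : IsMonHom j' := InfConjFam.isMonHom_of_mul _ fun X x y => by
    rw [← cancel_mono ((Over.pullback (Red.geomPt s)).map i), Category.assoc, hj', MonObj.mul_comp x y j,
      MonObj.mul_comp _ _ ((Over.pullback (Red.geomPt s)).map i), Category.assoc, Category.assoc, hj']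
  refine h4 s T' j' f hT' ?_
  rw [← cancel_mono ((Over.pullback (Red.geomPt s)).map i), Category.assoc, hj', hf, Functor.map_comp]

variable {k : Type u} [Field k]

/-- **Reduction to the affine case.** -/
theorem exists_isMaximalTorus
    (hNA : ∀ (K : Type u) [Field K] [IsAlgClosed K], GeomPart.NAFacts K)
    (haff : ∀ (Q : Over (Spec (CommRingCat.of k))) [GrpObj Q] [IsAffine Q.left] [Smooth Q.hom],
      ∃ (T : Over (Spec (CommRingCat.of k))) (_ : GrpObj T) (i : T ⟶ Q), Red.IsMaximalTorus i)
    (G : Over (Spec (CommRingCat.of k))) [GrpObj G] [Smooth G.hom] [QuasiCompact G.hom] :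
    ∃ (T : Over (Spec (CommRingCat.of k))) (_ : GrpObj T) (i : T ⟶ G), Red.IsMaximalTorus i := by
  obtain ⟨G0, gG0, i, hi, hicl, hif, hirange⟩ := Groth.Agent.S3023.result k G
  have hGn : IsLocallyNoetherian G.left := LocallyOfFiniteType.isLocallyNoetherian G.hom
  have hlfp : LocallyOfFinitePresentation i.left := inferInstance
  have hop : IsOpenImmersion i.left := IsOpenImmersion.of_flat_of_mono i.left
  have hsm : Smooth G0.hom := by
    rw [← Over.w i]; infer_instance
  have hqc : QuasiCompact G0.hom := by
    rw [← Over.w i]; infer_instance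
  have hconn : ConnectedSpace G0.left := by
    let s : (𝟙_ (Over (Spec (CommRingCat.of k)))).left := (IsLocalRing.closedPoint k : Spec (CommRingCat.of k))
    have h1 := hirange s
    have h2 : _root_.IsConnected (Set.range i.left) := by
      rw [show Set.range i.left = _ from h1]
      exact isConnected_connectedComponent
    have h3 : _root_.IsConnected (i.left '' Set.univ) := by rwa [Set.image_univ]
    have h4 := (i.left.isOpenEmbedding.isInducing.isPreconnected_image (s := Set.univ)).mp h3.2
    have h5 : Nonempty G0.left := ⟨η[G0].left s⟩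
    exact { isPreconnected_univ := h4, toNonempty := h5 }
  obtain ⟨T, gT, t, ht⟩ := GeomPart.exists_of_connected hNA haff G0
  exact ⟨T, gT, t ≫ i, isMaximalTorus_comp i t ht⟩

end Groth.Agent.Sga3.H801.Reduction
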